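import Cfsg.Agent.T44.Spor.Act
import Cfsg.Agent.T44.Cl.AB_m3
import Cfsg.Agent.S0012
import Cfsg.Agent.S0029
import Cfsg.Agent.S4208
import Cfsg.Agent.OddOrderCharacters.ClassSum
import Cfsg.Agent.DS.Gen.Split
import Cfsg.Agent.DS.Nt.Box
import Cfsg.Agent.FastGrp
import Cfsg.Agent.Prune
set_option linter.all false
prune_inst 0x7f00000000000000000000000000000000000000000000000000000000000000000000000000000000000000000000000000000000000000000000000000000000000000000000000000000000000000003fffffffffffffffffffffffffffbeffbdffffffff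
open scoped Cfsg.Agent.FastGrp

-- part: T44/Idx
section
/-!
# S3544, local case: small `r`-structure (helper36)

* `Cfg.false_of_index` : a Sylow `r`-subgroup of `M` has no abelian subgroup of index at most `r`;
* `Cfg.exists_sq` : two primes `s ≠ t` different from `r` with `s ^ 2`, `t ^ 2` dividing `|M|`;
* `Cfg.false_of_rank` : `M` does not normalise an `r`-group `E` with few generators and `C_T(E)` an `r`-group;
* `Cfg.ab_gen`, `Cfg.false_of_cent_comm` : offenders on a minimal normal subgroup of `H` in `Z(Q)`.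
-/

set_option autoImplicit false

namespace Cfsg.Agent.T44

open Subgroup Cfsg
open scoped commutatorElement

variable {G : Type*} [Group G]

/-- the Frattini subgroup -/
def Phi (Q : Subgroup G) : Subgroup G := (frattini Q).map Q.subtype

theorem norm_Phi {A Q : Subgroup G} (h : A ≤ normalizer (Q : Set G)) : A ≤ normalizer (Phi Q : Set G) := by
  refine norm_of_conj ?_
  rintro a ha _ ⟨x, hx, rfl⟩
  refine ⟨Q.normalizerMonoidHom ⟨a, h ha⟩ x, ?_, rfl⟩
  exact characteristic_iff_le_comap.1 (inferInstance : (frattini Q).Characteristic) _ hx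

theorem comm_mem_Phi [Finite G] {r : ℕ} (hr : r.Prime) {Q : Subgroup G} (hQ : IsPGroup r Q) {a b : G} (ha : a ∈ Q)
    (hb : b ∈ Q) : ⁅a, b⁆ ∈ Phi Q := by
  have : Fact r.Prime := ⟨hr⟩
  exact ⟨⁅(⟨a, ha⟩ : Q), ⟨b, hb⟩⁆, (S0012.result r hQ).1 (commutator_mem_commutator (mem_top _) (mem_top _)), rfl⟩

/-- a subgroup of index at most `r` in an `r`-group is maximal -/
theorem eq_of_index [Finite G] {r : ℕ} (hr : r.Prime) {A B R : Subgroup G} (hR : IsPGroup r R) (hAB : A ≤ B)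
    (hBR : B ≤ R) (hi : A.relIndex R ≤ r) (hne : ¬ B ≤ A) : B = R := by
  by_contra h
  have h1 := dvd_relIndex_of_not_le hr (hR.to_le hBR) hne
  have h2 := dvd_relIndex_of_not_le hr (A := B) hR fun e => h (le_antisymm hBR e)
  have h3 := Nat.le_of_dvd (Nat.pos_of_ne_zero (relIndex_ne_zero' A R))
    (relIndex_mul_relIndex A B R hAB hBR ▸ Nat.mul_dvd_mul h1 h2)
  have h4 := hr.two_le
  nlinarith

namespace Cfg

variable [Finite G] {T H Q : Subgroup G} {r : ℕ} {Ya Yb : Set G} {da db : ℕ} (h : Cfg T H Q r Ya Yb da db)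
include h

/-- Burnside: `La` acts non-trivially on `Q / Φ(Q)` -/
theorem false_of_Phi {t : ℕ} (ht : t.Prime) (htr : t ≠ r) {x : G} (hx : x ∈ T) (ho : orderOf x = t)
    (hc : ∀ q ∈ Q, x * q * x⁻¹ * q⁻¹ ∈ Phi Q) (hn : x ∈ normalizer (Q : Set G)) : False := by
  have : Fact t.Prime := ⟨ht⟩
  have h0 : IsPGroup t (zpowers x) := isPGroup_zpowers (k := 1) (by rw [pow_one, ← ho, pow_orderOf_eq_one])
  have h1 : zpowers x ≤ cmod (normalizer (Q : Set G)) (Phi Q) Q (norm_Phi le_rfl) := by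
    rw [zpowers_le]
    refine ⟨hn, fun q hq => ?_⟩
    have := inv_mem (hc q hq)
    rwa [← commutatorElement_def, commutatorElement_inv] at this
  have h2 := S0029.pgroup_case (zpowers x) Q h0 (fun e => not_dvd_card_of_pg h.prime ht htr h.isO.pg
    (e.trans (card_subgroup_dvd_card _))) fun a ha q hq => by
      have := inv_mem ((h1 ha).2 q hq)
      rwa [commutatorElement_inv, commutatorElement_def] at this
  refine not_dvd_card_of_pg h.prime ht htr h.isO.pg ?_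
  rw [← ho]
  exact orderOf_dvd_natCard _ (h.cent_Q ⟨hx, h2 (mem_zpowers x)⟩)

theorem exists_elt : ∃ t : ℕ, t.Prime ∧ t ≠ r ∧ ∃ x ∈ Lg Q Ya, orderOf x = t := by
  obtain ⟨t, ht, htr, h1⟩ := h.exists_prime_card
  have : Fact t.Prime := ⟨ht⟩
  obtain ⟨x, hx⟩ := exists_prime_orderOf_dvd_card' t h1
  exact ⟨t, ht, htr, x, x.2, by rw [← hx, Subgroup.orderOf_coe]⟩

/-- a normal subgroup of `La` which contains a Sylow `r`-subgroup -/
theorem La_le_of {R X : Subgroup G} (hR : Syl r R (T ⊓ H)) (h1 : Lg Q Ya ⊓ R ≤ X)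
    (h2 : Lg Q Ya ≤ normalizer (X : Set G)) : Lg Q Ya ≤ X := by
  rw [← h.Gen_Lg]
  exact Gen_le_of_syl h.prime (hR.inf h.La_le_M h.M_norm_La) h1 h2

theorem cube_dvd_syl {R : Subgroup G} (hR : Syl r R (T ⊓ H)) : r ^ 3 ∣ Q.relIndex R := by
  have h1 := h.N0
  rw [← relIndex_mul_relIndex Q R _ (h.Q_le_syl hR) hR.le] at h1
  exact (Nat.Coprime.pow_left 3 ((Nat.Prime.coprime_iff_not_dvd h.prime).2 hR.idx)).dvd_of_dvd_mul_right h1

/-- **A Sylow `r`-subgroup of `M` has no abelian subgroup of index at most `r`.** -/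
theorem false_of_index {R A : Subgroup G} (hR : Syl r R (T ⊓ H)) (hA : A ≤ R)
    (hc : ∀ a ∈ A, ∀ b ∈ A, a * b = b * a) (hi : A.relIndex R ≤ r) : False := by
  have hr := h.prime
  have hQR := h.Q_le_syl hR
  have hRQ : R ≤ normalizer (Q : Set G) := hR.le.trans h.isO.norm
  have hAQ : ¬ A ≤ Q := by
    intro e
    have h1 := (h.cube_dvd_syl hR).trans (relIndex_dvd_of_le_left R e)
    have h2 := (Nat.le_of_dvd (Nat.pos_of_ne_zero (relIndex_ne_zero' A R)) h1).trans hi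
    have h3 := Nat.pow_lt_pow_right hr.one_lt (show 1 < 3 by norm_num)
    rw [pow_one] at h3
    omega
  have hQA : ¬ Q ≤ A := fun e => hAQ fun a ha =>
    h.cent_Q ⟨(hR.le (hA ha)).1, mem_centralizer_iff.2 fun q hq => hc q (e hq) a ha⟩
  have hsup : A ⊔ Q = R := eq_of_index hr hR.pg le_sup_left (sup_le hA hQR) hi fun e => hQA (le_sup_right.trans e)
  have hW : (A ⊓ Q).relIndex Q ≤ r := by
    rw [inf_relIndex_right]
    exact (relIndex_le_of_le_right hQR (relIndex_ne_zero' A R)).trans hi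
  have hΦ : T ⊓ H ≤ normalizer (Phi Q : Set G) := norm_Phi h.isO.norm
  have hQΦ : Q ≤ normalizer (Phi Q : Set G) := norm_Phi le_normalizer
  -- `R` centralises `A ⊓ Q` modulo `Φ(Q)`
  have h1 : R ≤ cmod (T ⊓ H) (Phi Q) (A ⊓ Q) hΦ := by
    rw [← hsup]
    refine sup_le (fun a ha => ⟨hR.le (hA ha), fun w hw => ?_⟩) fun q hq => ⟨h.Q_le_M hq, fun w hw =>
      comm_mem_Phi hr h.isO.pg hw.2 hq⟩
    rw [commutatorElement_eq_one_iff_mul_comm.2 (hc w hw.1 a ha)]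
    exact one_mem _
  have hle : A ⊓ Q ≤ cmod Q (Phi Q) (Lg Q Yb ⊓ R) hQΦ := fun w hw => ⟨hw.2, fun x hx => by
    rw [← commutatorElement_inv]
    exact inv_mem ((h1 hx.2).2 w hw)⟩
  have h2 : A ⊓ Q = cmod Q (Phi Q) (Lg Q Yb ⊓ R) hQΦ := by
    refine le_antisymm hle ?_
    by_contra hne
    have h3 := eq_of_index hr h.isO.pg hle (fun _ hx => hx.1) hW hne
    have h4 : Lg Q Yb ≤ cmod (T ⊓ H) (Phi Q) Q hΦ := by
      refine h.symm.La_le_of hR (fun x hx => ⟨hR.le hx.2, fun q hq => ?_⟩)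
        (h.Lb_le_M.trans (norm_cmod _ le_normalizer hΦ h.isO.norm))
      rw [← commutatorElement_inv]
      exact inv_mem ((h3.ge hq).2 x hx)
    obtain ⟨t, ht, htr, x, hx, ho⟩ := h.symm.exists_elt
    refine h.false_of_Phi ht htr (h.Lb_le_M hx).1 ho (fun q hq => ?_) (h.isO.norm (h.Lb_le_M hx))
    have := inv_mem ((h4 hx).2 q hq)
    rwa [commutatorElement_inv, commutatorElement_def] at this
  -- `La` normalises `A ⊓ Q`
  have h3 : Lg Q Ya ≤ normalizer ((A ⊓ Q : Subgroup G) : Set G) := by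
    refine norm_of_conj fun l hl w hw => ?_
    have hlM := h.La_le_M hl
    rw [h2]
    refine ⟨conj_mem_of_norm h.isO.norm hlM hw.2, fun x hx => ?_⟩
    have h4 : ⁅l⁻¹, x⁆ ∈ Q := h.comm_le (commutator_mem_commutator (inv_mem hl) hx.1)
    have h5 : l⁻¹ * x * l ∈ R := by
      have e : l⁻¹ * x * l = ⁅l⁻¹, x⁆ * x := by rw [commutatorElement_def]; group
      rw [e]
      exact mul_mem (hQR h4) hx.2
    have e : ⁅x, l * w * l⁻¹⁆ = l * ⁅w, l⁻¹ * x * l⁆⁻¹ * l⁻¹ := by simp only [commutatorElement_def]; group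
    rw [e]
    exact conj_mem_of_norm hΦ hlM (inv_mem ((h1 h5).2 w hw))
  have h4 : Lg Q Ya ≤ cmod (T ⊓ H) (Phi Q) (A ⊓ Q) hΦ :=
    h.La_le_of hR (inf_le_right.trans h1) (norm_cmod _ (h.La_le_M.trans le_normalizer) (h.La_le_M.trans hΦ) h3)
  -- `La` centralises `Q / (A ⊓ Q)`
  have h5 : Lg Q Ya ≤ cmod (Lg Q Ya) (A ⊓ Q) Q h3 := by
    refine h.La_le_of hR (fun x hx => ⟨hx.1, fun q hq => ⟨?_, ?_⟩⟩)
      (norm_cmod _ le_normalizer h3 (h.La_le_M.trans h.isO.norm))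
    · have : Fact r.Prime := ⟨hr⟩
      have h6 : IsCoatom (A.subgroupOf R) := by
        refine ⟨fun e => hQA (hQR.trans (subgroupOf_eq_top.1 e)), fun B hB => ?_⟩
        have h7 := eq_of_index hr hR.pg (A := A) (B := B.map R.subtype)
          (fun a ha => ⟨⟨a, hA ha⟩, hB.le ha, rfl⟩) (map_subtype_le _) hi fun e => hB.not_ge fun b hb => e ⟨b, hb, rfl⟩
        rw [eq_top_iff]
        intro b _
        obtain ⟨c, hc1, hc2⟩ := h7.ge b.2
        rwa [← Subtype.ext hc2]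
      exact (S0012.result r hR.pg).1.trans (frattini_le_coatom h6)
        (commutator_mem_commutator (mem_top (⟨q, hQR hq⟩ : R)) (mem_top ⟨x, hx.2⟩))
    · exact commutator_le_left_of_norm hRQ (commutator_mem_commutator hq hx.2)
  obtain ⟨t, ht, htr, x, hx, ho⟩ := h.exists_elt
  have h0 : IsPGroup t (zpowers x) := isPGroup_zpowers (k := 1) (by rw [pow_one, ← ho, pow_orderOf_eq_one])
  have hxM := h.La_le_M hx
  refine h.false_of_Phi ht htr hxM.1 ho (fun q hq => ?_) (h.isO.norm hxM)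
  have : Fact t.Prime := ⟨ht⟩
  obtain ⟨c, hc1, hc2⟩ := Lib.CoprimeCommutator.exists_fixed_in_coset t (zpowers x) (A ⊓ Q) h0
    (((zpowers_le).2 hx).trans h3) (not_dvd_card_of_pg hr ht htr (h.isO.pg.to_le inf_le_right)) q (fun a ha => by
      have := (h5 (((zpowers_le).2 hx) ha)).2 q⁻¹ (inv_mem hq)
      have e : ⁅q⁻¹, a⁆ = q⁻¹ * (a * q * a⁻¹) := by rw [commutatorElement_def]; group
      rwa [e] at this)
  have h6 : x * c = c * x := mem_centralizer_iff.1 hc1 x (mem_zpowers x)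
  have h7 : c ∈ Q := by
    have := mul_mem hq hc2.2
    rwa [mul_inv_cancel_left] at this
  have h8 := (h4 hx).2 _ hc2
  have e : x * q * x⁻¹ * q⁻¹ = q * ⁅q⁻¹ * c, x⁆ * q⁻¹ := by
    have e1 : ⁅q⁻¹ * c, x⁆ = q⁻¹ * (c * x) * c⁻¹ * q * x⁻¹ := by rw [commutatorElement_def]; group
    rw [e1, ← h6]
    group
  rw [e]
  exact conj_mem_of_norm hQΦ hq h8

/-- two primes whose squares divide `|M|` -/
theorem exists_sq : ∃ s t : ℕ, s.Prime ∧ t.Prime ∧ s ≠ t ∧ s ≠ r ∧ t ≠ r ∧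
    s ^ 2 ∣ Nat.card (T ⊓ H : Subgroup G) ∧ t ^ 2 ∣ Nat.card (T ⊓ H : Subgroup G) := by
  obtain ⟨s, t, hs, ht, h1, h2, h3, -, -, h4, h5⟩ := h.exists_primes
  obtain ⟨y, hy⟩ := h.A.ne
  obtain ⟨z, hz⟩ := h.B.ne
  exact ⟨s, t, hs, ht, h1, h2, h3,
    (h.symm.sq_dvd hs (h4.trans (relIndex_dvd_card _ _)) hz).trans (card_dvd_of_le inf_le_left),
    (h.sq_dvd ht (h5.trans (relIndex_dvd_card _ _)) hy).trans (card_dvd_of_le inf_le_left)⟩

omit h in
theorem pow_dvd_aut {E M : Subgroup G} (hn : M ≤ normalizer (E : Set G))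
    (hC : IsPGroup r (M ⊓ centralizer (E : Set G) : Subgroup G)) (hr : r.Prime) {t k : ℕ} (ht : t.Prime) (htr : t ≠ r)
    (hd : t ^ k ∣ Nat.card M) : t ^ k ∣ Nat.card (MulAut E) := by
  obtain ⟨P, hP⟩ := exists_syl' ht M
  refine ((hP.dvd_card_iff ht).2 hd).trans (card_dvd_of_injective
    (E.normalizerMonoidHom.comp (inclusion (hP.le.trans hn))) ?_)
  rw [injective_iff_map_eq_one]
  intro x hx
  have h1 : (x : G) ∈ M ⊓ centralizer (E : Set G) := by
    refine ⟨hP.le x.2, mem_centralizer_iff.2 fun e he => ?_⟩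
    have h3 := congrArg Subtype.val (DFunLike.congr_fun hx (⟨e, he⟩ : E))
    have h2 : (x : G) * e * (x : G)⁻¹ = e := h3
    rw [mul_inv_eq_iff_eq_mul] at h2
    exact h2.symm
  have : Fact t.Prime := ⟨ht⟩
  have : Fact r.Prime := ⟨hr⟩
  exact Subtype.ext (disjoint_def.1 (IsPGroup.disjoint_of_ne t r htr _ _ hP.pg hC) x.2 h1)

omit h in
theorem eq_of_sq_dvd {t k : ℕ} (ht : t.Prime) (htr : t ≠ r) (hd : t ^ 2 ∣ ∏ i ∈ Finset.range k, (r ^ k - r ^ i)) :
    (r = 2 → k ≤ 5 → t = 3) ∧ (r = 3 → k ≤ 4 → t = 2) ∧ (r = 5 → k ≤ 3 → t = 2) := by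
  have key : ∀ (L : List ℕ) (a N j : ℕ), (∀ b ∈ L, b.Prime) → N ∣ L.prod ^ j → (∀ b ∈ L, b ^ 2 ∣ N → b = r ∨ b = a) →
      t ^ 2 ∣ N → t = a := by
    intro L a N j hL h1 h2 h3
    have h4 : t ∣ L.prod := ht.dvd_of_dvd_pow (((dvd_pow_self t two_ne_zero).trans h3).trans h1)
    obtain ⟨b, hb, h5⟩ := (Nat.prime_iff.1 ht).dvd_prod_iff.1 h4
    obtain rfl := (Nat.prime_dvd_prime_iff_eq ht (hL b hb)).1 h5
    exact (h2 t hb h3).resolve_left htr
  refine ⟨?_, ?_, ?_⟩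
  · rintro rfl hk
    refine key [2, 3, 5, 7, 31] 3 9999360 10 (by simp only [_root_.List.mem_cons, _root_.List.not_mem_nil, _root_.or_false, _root_.forall_eq_or_imp, _root_.forall_eq]; norm_num) (by norm_num) (by simp only [_root_.List.mem_cons, _root_.List.not_mem_nil, _root_.or_false, _root_.forall_eq_or_imp, _root_.Nat.reducePow, _root_.Nat.reduceDvd, _root_.Nat.reduceEqDiff, _root_.imp_self, _root_.Nat.succ_ne_self, _root_.or_true, _root_.or_self, _root_.forall_eq, _root_.and_self]) (hd.trans ?_)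
    interval_cases k <;> decide
  · rintro rfl hk
    refine key [2, 3, 5, 13] 2 24261120 10 (by simp; norm_num) (by norm_num) (by simp only [_root_.List.mem_cons, _root_.List.not_mem_nil, _root_.or_false, _root_.forall_eq_or_imp, _root_.Nat.reducePow, _root_.Nat.reduceDvd, _root_.Nat.reduceEqDiff, _root_.or_true, _root_.imp_self, _root_.Nat.succ_ne_self, _root_.or_self, _root_.forall_eq, _root_.and_self]) (hd.trans ?_)
    interval_cases k <;> decide
  · rintro rfl hk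
    refine key [2, 3, 5, 31] 2 1488000 10 (by simp; norm_num) (by norm_num) (by simp only [_root_.List.mem_cons, _root_.List.not_mem_nil, _root_.or_false, _root_.forall_eq_or_imp, _root_.Nat.reducePow, _root_.Nat.reduceDvd, _root_.Nat.reduceEqDiff, _root_.or_true, _root_.imp_self, _root_.Nat.succ_ne_self, _root_.or_self, _root_.forall_eq, _root_.and_self]) (hd.trans ?_)
    interval_cases k <;> decide

/-- **`M` does not act faithfully modulo `Q` on an `r`-group with few generators.** -/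
theorem false_of_rank {E : Subgroup G} (hE : IsPGroup r E) (hn : T ⊓ H ≤ normalizer (E : Set G))
    (hC : IsPGroup r (T ⊓ H ⊓ centralizer (E : Set G) : Subgroup G)) {n : ℕ} (hk : (frattini E).index ≤ r ^ n)
    (hn' : (r = 2 ∧ n ≤ 5) ∨ (r = 3 ∧ n ≤ 4) ∨ (r = 5 ∧ n ≤ 3)) : False := by
  have : Fact r.Prime := ⟨h.prime⟩
  obtain ⟨m, hm⟩ := IsPGroup.iff_card.1 hE
  obtain ⟨k, hk'⟩ := hE.index (frattini E)
  have hkn : k ≤ n := by
    rw [hk'] at hk
    exact (Nat.pow_le_pow_iff_right h.prime.one_lt).1 hk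
  have key : ∀ t : ℕ, t.Prime → t ≠ r → t ^ 2 ∣ Nat.card (T ⊓ H : Subgroup G) →
      t ^ 2 ∣ ∏ i ∈ Finset.range k, (r ^ k - r ^ i) := fun t ht htr hd =>
    (Nat.Coprime.pow _ _ ((Nat.coprime_primes ht h.prime).2 htr)).dvd_of_dvd_mul_left
      ((pow_dvd_aut hn hC h.prime ht htr hd).trans (S4208.result hm hk'))
  obtain ⟨s, t, hs, ht, h1, h2, h3, h4, h5⟩ := h.exists_sq
  have h6 := eq_of_sq_dvd hs h2 (key s hs h2 h4)
  have h7 := eq_of_sq_dvd ht h3 (key t ht h3 h5)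
  apply h1
  rcases hn' with ⟨e, h8⟩ | ⟨e, h8⟩ | ⟨e, h8⟩
  · rw [h6.1 e (by omega), h7.1 e (by omega)]
  · rw [h6.2.1 e (by omega), h7.2.1 e (by omega)]
  · rw [h6.2.2 e (by omega), h7.2.2 e (by omega)]

/-- the case `E = Q` -/
theorem false_of_rank_Q {n : ℕ} (hk : (frattini Q).index ≤ r ^ n)
    (hn' : (r = 2 ∧ n ≤ 5) ∨ (r = 3 ∧ n ≤ 4) ∨ (r = 5 ∧ n ≤ 3)) : False :=
  h.false_of_rank h.isO.pg h.isO.norm (h.isO.pg.to_le h.cent) hk hn'

/-- the case of a small group `E` -/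
theorem false_of_card {E : Subgroup G} (hE : IsPGroup r E) (hn : T ⊓ H ≤ normalizer (E : Set G))
    (hC : IsPGroup r (T ⊓ H ⊓ centralizer (E : Set G) : Subgroup G)) {n : ℕ} (hk : Nat.card E ≤ r ^ n)
    (hn' : (r = 2 ∧ n ≤ 5) ∨ (r = 3 ∧ n ≤ 4) ∨ (r = 5 ∧ n ≤ 3)) : False :=
  h.false_of_rank hE hn hC ((Nat.le_of_dvd Nat.card_pos (index_dvd_card _)).trans hk) hn'

/-! ### offenders -/

section off

open Cfsg.Agent.R2.T3544

theorem ab_gen_aux {E : Subgroup G} (hE : IsEA r E) (hV : MinInv H E) (hEQ : E ≤ Q)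
    (hQ : Q ≤ centralizer (E : Set G)) {y : G} (hy : y ∈ Ya) (hna : ¬ cj y E ≤ centralizer (E : Set G))
    {N₁ N₂ : Subgroup G} (hN1 : MinInv (Lg Q Ya) N₁) (hN1V : N₁ ≤ E) (hN2 : MinInv (Lg Q Yb) N₂) (hN2V : N₂ ≤ E) :
    Nat.card N₂ < Nat.card N₁ := by
  have : Fact r.Prime := ⟨h.prime⟩
  have e1 : ∀ g : G, Nat.card (cj g E ⊓ centralizer (E : Set G) : Subgroup G) =
      Nat.card (E ⊓ centralizer (cj g⁻¹ E : Set G) : Subgroup G) := by
    intro g
    rw [← card_cj g⁻¹, cj_inf, cj_inv_cj, cj_centralizer]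
  have hna' : ¬ cj y⁻¹ E ≤ centralizer (E : Set G) := by
    intro e
    apply hna
    rw [le_centralizer_iff, ← cj_centralizer]
    have := cj_mono y e
    rwa [cj_cj_inv] at this
  have hex : ∃ g ∈ Ya, ∃ B ≤ cj g E, BestOff B E ∧ ¬ B ≤ centralizer (E : Set G) := by
    by_contra hc
    push Not at hc
    have h1 := card_lt_of_no_off (hc y hy) hna
    have h2 := card_lt_of_no_off (hc y⁻¹ (h.A.inv y hy)) hna'
    rw [card_cj, mul_comm, e1] at h1 h2
    rw [inv_inv] at h2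
    exact lt_asymm (Nat.lt_of_mul_lt_mul_right h1) (Nat.lt_of_mul_lt_mul_right h2)
  obtain ⟨g, hg, B, hB, hbo, hnc⟩ := hex
  have hB' := hB.trans (cj_mono g hEQ)
  exact size_lemma' (r := r) (A := B) (B := B) (D := E) hV hE h.H_norm_La h.H_norm_Lb (h.La_le_M.trans inf_le_right)
    (h.Lb_le_M.trans inf_le_right) (h.comm_le.trans hQ) le_rfl
    (hB'.trans (cj_le_Lg hg)) ((isPGroup_cj g h.isO.pg).to_le hB') (Or.inl rfl) hbo (not_le_cent_symm hnc)
    hN1 hN1V hN2 hN2V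

/-- a minimal normal subgroup `E ≤ Z(Q)` of `H` commutes with all `E^y`, `y ∈ Ya`, or with all `E^z`, `z ∈ Yb` -/
theorem ab_gen {E : Subgroup G} (hE : IsEA r E) (hV : MinInv H E) (hEQ : E ≤ Q) (hQ : Q ≤ centralizer (E : Set G)) :
    (∀ y ∈ Ya, cj y E ≤ centralizer (E : Set G)) ∨ ∀ z ∈ Yb, cj z E ≤ centralizer (E : Set G) := by
  by_contra hc
  push Not at hc
  obtain ⟨⟨y, hy, h3⟩, z, hz, h4⟩ := hc
  obtain ⟨N₁, h1, h1'⟩ := Cl.exists_minInv_le hV.1 ((h.La_le_M.trans inf_le_right).trans hV.2.1)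
  obtain ⟨N₂, h2, h2'⟩ := Cl.exists_minInv_le hV.1 ((h.Lb_le_M.trans inf_le_right).trans hV.2.1)
  exact lt_asymm (h.ab_gen_aux hE hV hEQ hQ hy h3 h1 h1' h2 h2') (h.symm.ab_gen_aux hE hV hEQ hQ hz h4 h2 h2' h1 h1')

/-- `C_T(E)` is not abelian -/
theorem false_of_cent_comm {E : Subgroup G} (hE : IsEA r E) (hV : MinInv H E) (hEQ : E ≤ Q)
    (hQ : Q ≤ centralizer (E : Set G))
    (hc : ∀ a ∈ T ⊓ centralizer (E : Set G), ∀ b ∈ T ⊓ centralizer (E : Set G), a * b = b * a) : False := by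
  have h1 : T ⊓ centralizer (E : Set G) ≤ Q := fun a ha =>
    h.cent_Q ⟨ha.1, mem_centralizer_iff.2 fun q hq => hc q ⟨h.Q_le_T hq, hQ hq⟩ a ha⟩
  have key : ∀ y ∈ T, y ∉ H → ¬ cj y E ≤ centralizer (E : Set G) := by
    intro y hy hyH e
    refine h.not_Q_le_cj hyH fun q hq => ?_
    rw [mem_cj]
    refine h1 ⟨T.mul_mem (T.mul_mem (T.inv_mem hy) (h.Q_le_T hq)) hy, mem_centralizer_iff.2 fun a ha => ?_⟩
    have h2 := hc _ ⟨h.cj_Q_le_T y (cj_mono y hEQ (conj_mem_cj ha y)), e (conj_mem_cj ha y)⟩ q ⟨h.Q_le_T hq, hQ hq⟩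
    calc a * (y⁻¹ * q * y) = y⁻¹ * (y * a * y⁻¹ * q) * y := by group
      _ = y⁻¹ * (q * (y * a * y⁻¹)) * y := by rw [h2]
      _ = _ := by group
  obtain ⟨y, hy⟩ := h.A.ne
  obtain ⟨z, hz⟩ := h.B.ne
  rcases h.ab_gen hE hV hEQ hQ with h2 | h2
  · exact key y (h.A.mem y hy) (h.A.notMem y hy) (h2 y hy)
  · exact key z (h.B.mem z hz) (h.B.notMem z hz) (h2 z hz)

end off

end Cfg

end Cfsg.Agent.T44
end

-- part: T44/Ex/Act
section
/-!
# S3544, exceptional groups: groups acting on finite abelian groups (helper36)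

* `Fx φ A`, `card_mod`, `card_dvd_sub` : fixed points;
* `Pol r K` : a symplectic polarity `x ↦ K x` of an elementary abelian `r`-group; `Pol.card`, `Pol.card_fix`;
* `fix_bot`, `triv_of_form` : groups of order `25` acting on groups of order `2 ^ 8`, `3 ^ 8`.
-/

set_option autoImplicit false

namespace Cfsg.Agent.T44.Ex

open Subgroup

variable {Γ V : Type*} [Group Γ] [CommGroup V] (φ : Γ →* MulAut V)

/-- the fixed points -/
def Fx (A : Subgroup Γ) : Subgroup V where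
  carrier := {v | ∀ a ∈ A, φ a v = v}
  one_mem' := fun _ _ => map_one _
  mul_mem' := fun hv hw a ha => by rw [map_mul, hv a ha, hw a ha]
  inv_mem' := fun hv a ha => by rw [map_inv, hv a ha]

/-- invariant subgroups -/
def Iv (A : Subgroup Γ) (W : Subgroup V) : Prop := ∀ a ∈ A, ∀ w ∈ W, φ a w ∈ W

variable {φ}

theorem mem_Fx_zpowers {a : Γ} {v : V} : v ∈ Fx φ (zpowers a) ↔ φ a v = v := by
  refine ⟨fun h => h a (mem_zpowers a), fun h b hb => ?_⟩
  have h1 : zpowers a ≤ (MulAction.stabilizer (MulAut V) v).comap φ := zpowers_le.2 h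
  exact h1 hb

variable [Finite V]

theorem card_mod {t : ℕ} (ht : t.Prime) {A : Subgroup Γ} (hA : IsPGroup t A) {W : Subgroup V} (hW : Iv φ A W) :
    Nat.card W ≡ Nat.card (W ⊓ Fx φ A : Subgroup V) [MOD t] := by
  have : Fact t.Prime := ⟨ht⟩
  letI : MulAction A W :=
    { smul := fun a w => ⟨φ a w, hW a a.2 w w.2⟩
      one_smul := fun w => Subtype.ext (by
        show φ ((1 : A) : Γ) w = w
        rw [coe_one, map_one, MulAut.one_apply])
      mul_smul := fun a b w => Subtype.ext (by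
        show φ ((a * b : A) : Γ) w = φ a (φ b w)
        rw [coe_mul, map_mul, MulAut.mul_apply]) }
  have h1 := hA.card_modEq_card_fixedPoints W
  have e : MulAction.fixedPoints A W ≃ (W ⊓ Fx φ A : Subgroup V) :=
    { toFun := fun w => ⟨w.1, w.1.2, fun a ha => congrArg Subtype.val (w.2 ⟨a, ha⟩)⟩
      invFun := fun w => ⟨⟨w.1, w.2.1⟩, fun a => Subtype.ext (w.2.2 a a.2)⟩
      left_inv := fun _ => rfl
      right_inv := fun _ => rfl }
  rwa [Nat.card_congr e] at h1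

theorem card_dvd_sub {A : Subgroup Γ} [Finite A] {W W' : Subgroup V} (hW : Iv φ A W) (hW' : Iv φ A W') (hle : W' ≤ W)
    (hf : ∀ a ∈ A, ∀ w ∈ W, φ a w = w → a = 1 ∨ w ∈ W') : Nat.card A ∣ Nat.card W - Nat.card W' := by
  classical
  have := Fintype.ofFinite V
  letI : MulAction A V := MulAction.compHom V (φ.comp A.subtype)
  have h1 := OddOrderCharacters.ClassSum.card_dvd_of_free (H := A) (X := V)
    ((W : Set V).toFinset \ (W' : Set V).toFinset) (fun a x hx => by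
      rw [Finset.mem_sdiff, Set.mem_toFinset, Set.mem_toFinset] at hx ⊢
      refine ⟨hW a a.2 x hx.1, fun h => hx.2 ?_⟩
      have h2 := hW' _ (inv_mem a.2) _ h
      change φ (a : Γ)⁻¹ (φ a x) ∈ W' at h2
      rwa [map_inv, MulAut.inv_apply_self] at h2) (fun a x hx h => by
      rw [Finset.mem_sdiff, Set.mem_toFinset, Set.mem_toFinset] at hx
      exact Subtype.ext ((hf a a.2 x hx.1 h).resolve_right hx.2))
  rwa [Finset.card_sdiff_of_subset (Set.toFinset_mono hle), Set.toFinset_card, Set.toFinset_card,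
    ← Nat.card_eq_fintype_card, ← Nat.card_eq_fintype_card] at h1

/-! ### symplectic polarities -/

/-- a symplectic polarity -/
structure Pol (r : ℕ) (K : V → Subgroup V) : Prop where
  prime : r.Prime
  pow : ∀ x : V, x ^ r = 1
  symm : ∀ x y, y ∈ K x → x ∈ K y
  refl : ∀ x, x ∈ K x
  cyc : ∀ x y, y ∉ K x → ∀ c, ∃ j : ℕ, c * y ^ j ∈ K x

namespace Pol

variable {r : ℕ} {K : V → Subgroup V} (h : Pol r K)
include h

theorem idx {x y : V} {A : Subgroup V} (hy : y ∈ A) (hn : y ∉ K x) : (K x).relIndex A = r := by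
  have : Fact r.Prime := ⟨h.prime⟩
  have h1 : A ⊔ K x = zpowers y ⊔ K x := by
    refine le_antisymm (sup_le (fun c _ => ?_) le_sup_right) (sup_le_sup_right (zpowers_le.2 hy) _)
    obtain ⟨j, hj⟩ := h.cyc x y hn c
    rw [show c = (y ^ j)⁻¹ * (c * y ^ j) by rw [mul_comm c, inv_mul_cancel_left]]
    exact mul_mem (mem_sup_left (inv_mem (pow_mem (mem_zpowers y) j))) (mem_sup_right hj)
  have h2 : Nat.card (zpowers y) = r := by
    rw [Nat.card_zpowers, orderOf_eq_prime (h.pow y) fun e => hn (e ▸ one_mem _)]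
  rw [← relIndex_sup_right, h1, relIndex_sup_right]
  refine ((Nat.dvd_prime h.prime).1 (h2 ▸ relIndex_dvd_card _ _)).resolve_left fun e => hn ?_
  exact relIndex_eq_one.1 e (mem_zpowers y)

/-- non-degenerate subgroups have even rank -/
theorem card (A : Subgroup V) (hA : ∀ x ∈ A, A ≤ K x → x = 1) : ∃ k, Nat.card A = (r ^ 2) ^ k := by
  induction hn : Nat.card A using Nat.strong_induction_on generalizing A with
  | _ n ih =>
    by_cases h0 : A = ⊥
    · exact ⟨0, by rw [← hn, h0, card_bot, pow_zero]⟩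
    obtain ⟨x, hx, hx1⟩ := A.bot_or_exists_ne_one.resolve_left h0
    obtain ⟨y, hy, hyx⟩ := SetLike.not_le_iff_exists.1 fun e => hx1 (hA x hx e)
    have hxy : x ∉ K y := fun e => hyx (h.symm y x e)
    have h1 : Nat.card (A ⊓ K x : Subgroup V) * r = Nat.card A := by
      rw [← h.idx hy hyx, ← card_mul_relIndex (inf_le_left : A ⊓ K x ≤ A), inf_comm, inf_relIndex_right]
    have h2 : Nat.card (A ⊓ K x ⊓ K y : Subgroup V) * r = Nat.card (A ⊓ K x : Subgroup V) := by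
      rw [← h.idx (A := A ⊓ K x) ⟨hx, h.refl x⟩ hxy, ← card_mul_relIndex (inf_le_left : A ⊓ K x ⊓ K y ≤ A ⊓ K x),
        inf_comm (A ⊓ K x), inf_relIndex_right]
    have h3 : 0 < Nat.card (A ⊓ K x ⊓ K y : Subgroup V) := Nat.card_pos
    have h4 := h.prime.two_le
    obtain ⟨k, hk⟩ := ih (Nat.card (A ⊓ K x ⊓ K y : Subgroup V)) (by rw [← hn, ← h1, ← h2]; nlinarith only [h2, h3, h4])
      (A ⊓ K x ⊓ K y) (fun z hz hle => hA z hz.1.1 fun c hc => by
        obtain ⟨j, hj⟩ := h.cyc x y hyx c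
        obtain ⟨i, hi⟩ := h.cyc y x hxy (c * y ^ j)
        have h5 := hle (show c * y ^ j * x ^ i ∈ A ⊓ K x ⊓ K y from
          ⟨⟨mul_mem (mul_mem hc (pow_mem hy j)) (pow_mem hx i), mul_mem hj (pow_mem (h.refl x) i)⟩, hi⟩)
        exact (mul_mem_cancel_right (pow_mem (h.symm y z hz.2) j)).1
          ((mul_mem_cancel_right (pow_mem (h.symm x z hz.1.2) i)).1 h5)) rfl
    exact ⟨k + 1, by rw [← hn, ← h1, ← h2, hk]; ring⟩

end Pol

/-- the fixed points of an element of order prime to six -/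
theorem Pol.card_fix {K : V → Subgroup V} (h : Pol 3 K) (hn : ∀ x, ⊤ ≤ K x → x = 1) {a : Γ} {t : ℕ} (ht : a ^ t = 1)
    (h2 : Odd t) (h3 : Nat.Coprime t 3) (hK : ∀ x y, y ∈ K x → φ a y ∈ K (φ a x)) :
    ∃ k, Nat.card (Fx φ (zpowers a)) = 9 ^ k := by
  refine h.card _ fun x hx hle => hn x fun y _ => ?_
  rw [mem_Fx_zpowers] at hx
  have k1 : ∀ n : ℕ, ∀ y ∈ K x, φ (a ^ n) y ∈ K x := by
    intro n y hy
    induction n with
    | zero => rwa [pow_zero, map_one]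
    | succ n ih =>
      rw [pow_succ', map_mul, MulAut.mul_apply, ← hx]
      exact hK _ _ ih
  have k2 : ∀ m n : ℕ, φ (a ^ m) y * y⁻¹ ∈ K x → φ (a ^ n) y * y⁻¹ ∈ K x → φ (a ^ (m + n)) y * y⁻¹ ∈ K x := by
    intro m n hm hn
    have e : φ (a ^ (m + n)) y * y⁻¹ = φ (a ^ m) (φ (a ^ n) y * y⁻¹) * (φ (a ^ m) y * y⁻¹) := by
      rw [pow_add, map_mul φ, MulAut.mul_apply, map_mul, map_inv, mul_assoc, inv_mul_cancel_left]
    rw [e]
    exact mul_mem (k1 m _ hn) hm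
  have k3 : ∀ m n : ℕ, φ (a ^ m) y * y⁻¹ ∈ K x → φ (a ^ (m * n)) y * y⁻¹ ∈ K x := by
    intro m n hm
    induction n with
    | zero =>
      rw [mul_zero, pow_zero, map_one, MulAut.one_apply, mul_inv_cancel]
      exact one_mem _
    | succ n ih => exact mul_add_one m n ▸ k2 _ _ ih hm
  by_contra hy
  have k4 : φ (a ^ 1) y * y⁻¹ ∈ K x := by
    obtain ⟨j, hj⟩ := h.cyc x y hy (φ (a ^ 1) y)
    rw [← Nat.div_add_mod j 3, pow_add, pow_mul, h.pow, one_pow, one_mul] at hj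
    have k5 : j % 3 = 0 ∨ j % 3 = 1 ∨ j % 3 = 2 := by omega
    obtain ⟨s, rfl⟩ := h2
    rcases k5 with e | e | e <;> rw [e] at hj
    · rw [pow_zero, mul_one] at hj
      have k6 := k1 (2 * s) _ hj
      rw [← MulAut.mul_apply, ← map_mul, ← pow_add, ht, map_one] at k6
      exact absurd k6 hy
    · have k6 : φ (a ^ 2) y * y⁻¹ ∈ K x := by
        have e : φ (a ^ 2) y * y⁻¹ = φ (a ^ 1) (φ (a ^ 1) y * y ^ 1) * (φ (a ^ 1) y * y ^ 1)⁻¹ := by
          rw [map_mul, ← MulAut.mul_apply, ← map_mul, ← pow_add, pow_one y, mul_inv_rev, ← mul_assoc, mul_right_comm _ _ y⁻¹,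
            mul_inv_cancel_right]
        rw [e]
        exact mul_mem (k1 1 _ hj) (inv_mem hj)
      have k7 := inv_mem (k1 1 _ (k3 2 s k6))
      rwa [map_mul, ← MulAut.mul_apply, ← map_mul, ← pow_add, add_comm 1, ht, map_one, MulAut.one_apply, map_inv,
        mul_inv_rev, inv_inv] at k7
    · have e : y ^ 2 = y⁻¹ := eq_inv_of_mul_eq_one_left (by rw [← pow_succ, h.pow])
      rwa [e] at hj
  have k5 : ∏ i ∈ Finset.range t, φ (a ^ i) y ∈ K x := by
    refine hle (mem_Fx_zpowers.2 ?_)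
    have e1 := Finset.prod_range_succ (fun i => φ (a ^ i) y) t
    have e2 := Finset.prod_range_succ' (fun i => φ (a ^ i) y) t
    rw [e2, ht, pow_zero] at e1
    rw [map_prod, ← mul_right_cancel e1]
    exact Finset.prod_congr rfl fun i _ => by rw [pow_succ', map_mul, MulAut.mul_apply]
  have k6 : ∏ i ∈ Finset.range t, (φ (a ^ i) y * y⁻¹) ∈ K x :=
    prod_mem fun i _ => by simpa only [one_mul] using k3 1 i k4
  rw [Finset.prod_mul_distrib, Finset.prod_const, Finset.card_range, mul_mem_cancel_left k5, inv_pow, inv_mem_iff] at k6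
  apply hy
  obtain ⟨m, hm⟩ := exists_pow_eq_self_of_coprime (x := y) (n := t) (h3.coprime_dvd_right (orderOf_dvd_of_pow_eq_one (h.pow y)))
  rw [← hm]
  exact pow_mem k6 m

/-! ### groups of order `25` -/

section five

variable {s : ℕ} (hs : s = 2 ∨ s = 3) (hV : Nat.card V = s ^ 8) {P : Subgroup Γ} (hP : Nat.card P = 25)
  (hf : ∀ a ∈ P, (∀ v, φ a v = v) → a = 1)

include hs hV

include hP hf

end five

end Cfsg.Agent.T44.Ex
end

-- part: T44/Ex/Grp
section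
/-!
# S3544, exceptional groups: group theory (helper36)

* `Cfg.ch`, `AS.setup`, `AS.noP`, `pg_of_hom`;
* `false_of_pol` : `Q` elementary abelian of order at most `3 ^ 6` with an invariant symplectic polarity;
* `five_of_hom`, `false_of_eight` : a homomorphism from `M` to a Weyl group.
-/

set_option autoImplicit false
set_option linter.unusedSectionVars false

namespace Cfsg.Agent.T44.Ex

open Subgroup Cfsg Cfsg.Agent.T44
open scoped commutatorElement

section gen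

variable {G : Type*} [Group G] [Finite G] {T H Q : Subgroup G} {r : ℕ} {Ya Yb : Set G} {da db : ℕ}

omit [Finite G] in
theorem ch (h : Cfg T H Q r Ya Yb da db) : Cl.Ch r (T ⊓ H) Q := ⟨h.prime, h.isO, h.cent⟩

/-- a normal subgroup which is an extension of an abelian group by an `r`-group -/
theorem pg_of_hom {N X : Subgroup G} (h : Cl.Ch r N Q) (hX : X ≤ N) (hn : N ≤ normalizer (X : Set G)) {P : Type*}
    [Group P] (hP : IsPGroup r P) (f : X →* P) (hf : ∀ x y, f x = 1 → f y = 1 → x * y = y * x) : IsPGroup r X := by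
  have h1 : f.ker.map X.subtype ≤ X ⊓ Q := by
    refine (h.sub hX hn).le_of_comm (map_subtype_le _) (norm_of_conj ?_) ?_
    · rintro a ha _ ⟨x, hx, rfl⟩
      exact ⟨_, f.normal_ker.conj_mem x hx ⟨a, ha⟩, rfl⟩
    · rintro _ ⟨x, hx, rfl⟩ _ ⟨y, hy, rfl⟩
      exact congrArg Subtype.val (hf x y hx hy)
  intro x
  obtain ⟨k, hk⟩ := hP (f x)
  obtain ⟨j, hj⟩ := h.isO.pg ⟨_, (h1 ⟨x ^ r ^ k, by rw [SetLike.mem_coe, MonoidHom.mem_ker, map_pow, hk], rfl⟩).2⟩
  refine ⟨k + j, Subtype.ext ?_⟩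
  have h2 : ((x : G) ^ r ^ k) ^ r ^ j = 1 := congrArg Subtype.val hj
  rw [pow_add, pow_mul]
  exact h2

theorem eq_of_sq_dvd_six {t k : ℕ} (ht : t.Prime) (h2 : t ≠ 2) (h3 : t ≠ 3) (hk : k ≤ 6)
    (hd : t ^ 2 ∣ ∏ i ∈ Finset.range k, (3 ^ k - 3 ^ i)) : t = 11 ∨ t = 13 := by
  have h1 : t ^ 2 ∣ 84129611558952960 := hd.trans (by
    interval_cases k <;> simp only [Finset.prod_range_succ, Finset.prod_range_zero] <;> norm_num)
  have h0 : (84129611558952960 : ℕ) ∣ (2 * (3 * (5 * (7 * (11 * 13))))) ^ 15 := by norm_num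
  have h4 := ht.dvd_of_dvd_pow (((dvd_pow_self t two_ne_zero).trans h1).trans h0)
  simp only [ht.dvd_mul] at h4
  have k : ∀ {b : ℕ}, b.Prime → t ∣ b → t = b := fun hb h => (Nat.prime_dvd_prime_iff_eq ht hb).1 h
  rcases h4 with h | h | h | h | h | h
  · exact absurd (k Nat.prime_two h) h2
  · exact absurd (k Nat.prime_three h) h3
  · rw [k Nat.prime_five h] at h1; norm_num at h1
  · rw [k (by norm_num : Nat.Prime 7) h] at h1; norm_num at h1
  · exact Or.inl (k (by norm_num) h)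
  · exact Or.inr (k (by norm_num) h)

theorem fin6 {t j : ℕ} (ht : t = 11 ∨ t = 13) (h5 : j ≤ 3) (h2 : j ≠ 0) (h3 : j ≠ 3) (h1 : (3 ^ 2) ^ 3 ≡ 9 ^ j [MOD t]) : False := by
  have : j = 1 ∨ j = 2 := by omega
  rcases ht with rfl | rfl <;> rcases this with rfl | rfl <;> revert h1 <;> decide

/-- **An invariant symplectic polarity on `Q`.** -/
theorem false_of_pol (h : Cfg T H Q 3 Ya Yb da db) (hc : ∀ a ∈ Q, ∀ b ∈ Q, a * b = b * a) (hpow : ∀ a ∈ Q, a ^ 3 = 1)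
    (hcard : Nat.card Q ≤ 3 ^ 6) (R : G → G → Prop)
    (hK : ∀ x ∈ Q, ∃ K : Subgroup G, (∀ y ∈ Q, y ∈ K ↔ R x y) ∧ ∀ y ∈ Q, y ∉ K → ∀ c ∈ Q, ∃ j : ℕ, c * y ^ j ∈ K)
    (hs : ∀ x y, R x y → R y x) (hr : ∀ x ∈ Q, R x x) (hn : ∀ x ∈ Q, (∀ y ∈ Q, R x y) → x = 1)
    (hi : ∀ m ∈ T ⊓ H, ∀ x ∈ Q, ∀ y ∈ Q, R x y → R (m * x * m⁻¹) (m * y * m⁻¹)) : False := by
  have : Fact (Nat.Prime 3) := ⟨Nat.prime_three⟩
  let _ : CommGroup Q := { (inferInstance : Group Q) with mul_comm := fun a b => Subtype.ext (hc a a.2 b b.2) }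
  choose K0 k1 k2 using fun x : Q => hK x x.2
  let K : Q → Subgroup Q := fun x => (K0 x).subgroupOf Q
  have hKm : ∀ x y : Q, y ∈ K x ↔ R x y := fun x y => k1 x y y.2
  have P : Pol 3 K := ⟨Nat.prime_three, fun x => Subtype.ext (hpow x x.2),
    fun x y e => (hKm _ _).2 (hs _ _ ((hKm _ _).1 e)), fun x => (hKm _ _).2 (hr x x.2), fun x y hy c => k2 x y y.2 hy c c.2⟩
  have hnd : ∀ x, ⊤ ≤ K x → x = 1 := fun x e =>
    Subtype.ext (hn x x.2 fun y hy => (hKm x ⟨y, hy⟩).1 (e (mem_top _)))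
  let φ : (T ⊓ H : Subgroup G) →* MulAut Q := Q.normalizerMonoidHom.comp (inclusion h.isO.norm)
  have hφ : ∀ (m : (T ⊓ H : Subgroup G)) (x : Q), ((φ m x : Q) : G) = m * x * (m : G)⁻¹ := fun _ _ => rfl
  obtain ⟨k, hk⟩ := P.card ⊤ fun x _ => hnd x
  rw [card_top] at hk
  have hk3 : k ≤ 3 := by
    rw [hk, ← pow_mul] at hcard
    have := (Nat.pow_le_pow_iff_right (by norm_num)).1 hcard
    omega
  by_cases hk2 : k ≤ 2
  · refine h.false_of_card h.isO.pg h.isO.norm (h.isO.pg.to_le h.cent) (n := 4) ?_ (Or.inr (Or.inl ⟨rfl, le_rfl⟩))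
    rw [hk, ← pow_mul]
    exact Nat.pow_le_pow_right (by norm_num) (by omega)
  obtain rfl : k = 3 := by omega
  obtain ⟨t, ht, t2, t3, hd⟩ : ∃ t : ℕ, t.Prime ∧ t ≠ 2 ∧ t ≠ 3 ∧ t ^ 2 ∣ Nat.card (T ⊓ H : Subgroup G) := by
    obtain ⟨s, t, a1, a2, a3, a4, a5, a6, a7⟩ := h.exists_sq
    by_cases e : s = 2
    · exact ⟨t, a2, fun e' => a3 (e.trans e'.symm), a5, a7⟩
    · exact ⟨s, a1, e, a4, a6⟩
  have hco : t.Coprime 3 := (Nat.coprime_primes ht Nat.prime_three).2 t3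
  have ht' : t = 11 ∨ t = 13 := by
    obtain ⟨j, hj⟩ := h.isO.pg.index (frattini Q)
    have h1 : 3 ^ j ≤ 3 ^ 6 := hj ▸ (Nat.le_of_dvd Nat.card_pos (index_dvd_card _)).trans hcard
    exact eq_of_sq_dvd_six ht t2 t3 ((Nat.pow_le_pow_iff_right (by norm_num)).1 h1)
      ((Nat.Coprime.pow _ _ hco).dvd_of_dvd_mul_left ((Cfg.pow_dvd_aut h.isO.norm (h.isO.pg.to_le h.cent) h.prime ht t3 hd).trans
        (S4208.result (n := 6) (by rw [hk]; norm_num) hj)))
  have : Fact t.Prime := ⟨ht⟩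
  obtain ⟨A, hA⟩ := Sylow.exists_subgroup_card_pow_prime t hd
  obtain ⟨a, ha, w, -, haw, h7⟩ : ∃ a ∈ A, ∃ w ∈ (⊤ : Subgroup Q), φ a w = w ∧ ¬ (a = 1 ∨ w ∈ (⊥ : Subgroup Q)) := by
    by_contra hc
    push Not at hc
    have h7 := card_dvd_sub (φ := φ) (A := A) (W := ⊤) (W' := ⊥) (fun _ _ _ _ => mem_top _)
      (fun a _ w hw => by rw [mem_bot.1 hw, map_one]; exact one_mem _) bot_le hc
    rw [hA, card_top, hk, card_bot] at h7
    rcases ht' with rfl | rfl <;> norm_num at h7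
  rw [not_or] at h7
  have hat : a ^ t ^ 2 = 1 := by
    have k5 : (⟨a, ha⟩ : A) ^ t ^ 2 = 1 := by rw [← hA]; exact pow_card_eq_one'
    exact congrArg Subtype.val k5
  obtain ⟨j, hj⟩ := P.card_fix (φ := φ) hnd hat (ht.odd_of_ne_two t2).pow (hco.pow_left 2) fun x y e =>
    (hKm _ _).2 (hi a a.2 x x.2 y y.2 ((hKm _ _).1 e))
  have h1 := card_mod (φ := φ) ht (isPGroup_zpowers hat) (W := ⊤) fun _ _ _ _ => mem_top _
  rw [top_inf_eq, card_top, hk, hj] at h1
  have h2 : j ≠ 0 := fun e => h7.2 (by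
    rw [e, pow_zero, card_eq_one] at hj
    exact hj.le (mem_Fx_zpowers.2 haw))
  have h3 : j ≠ 3 := fun e => h7.1 (by
    rw [e, show 9 ^ 3 = (3 ^ 2) ^ 3 by norm_num, ← hk, card_eq_iff_eq_top] at hj
    have h4 : (a : G) ∈ Q := h.cent ⟨a.2, mem_centralizer_iff.2 fun q hq => by
      have h5 := congrArg Subtype.val (mem_Fx_zpowers.1 (hj.ge (mem_top ⟨q, hq⟩)))
      rw [hφ, mul_inv_eq_iff_eq_mul] at h5
      exact h5.symm⟩
    have h5 := Nat.eq_one_of_dvd_coprimes (hco.pow_left 2) (orderOf_dvd_of_pow_eq_one (congrArg Subtype.val hat))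
      (orderOf_dvd_of_pow_eq_one (hpow a h4))
    exact Subtype.ext (orderOf_eq_one_iff.1 h5))
  have h4 : 9 ^ j ≤ 9 ^ 3 := by
    rw [← hj, show 9 ^ 3 = (3 ^ 2) ^ 3 by norm_num, ← hk]
    exact Nat.le_of_dvd Nat.card_pos (card_subgroup_dvd_card _)
  have h5 : j ≤ 3 := (Nat.pow_le_pow_iff_right (by norm_num)).1 h4
  exact fin6 ht' h5 h2 h3 h1

end gen

section setup

variable {G : Type} [Group G] [Finite G] {T H Q : Subgroup G} {r : ℕ} {Ya Yb : Set G} {da db : ℕ}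
  (h : AS T H Q r Ya Yb da db)
include h

theorem setup : DS.Setup T H := ⟨h.normal, h.simple, h.noncomm, h.centT, h.coatom, h.toCfg.not_T_le⟩

/-- `H` normalises no `p`-subgroup of `T` -/
theorem noP {p : ℕ} (hp : p.Prime) (hrp : r ≠ p) (P : Subgroup G) (hP : P ≤ T) (hpg : IsPGroup p P)
    (hn : H ≤ normalizer (P : Set G)) : P = ⊥ := by
  have : Fact p.Prime := ⟨hp⟩
  have : Fact r.Prime := ⟨h.prime⟩
  have hd : ∀ P' : Subgroup G, IsPGroup p P' → Q ⊓ P' = ⊥ := fun P' h' =>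
    (IsPGroup.disjoint_of_ne r p hrp _ _ h.isO.pg h').eq_bot
  by_contra h0
  have h1 := DS.Gen.normalizer_eq_of_setup (setup h) hP h0 (fun e => h.Q_ne (by
    rw [← hd P hpg, e, inf_eq_left.2 h.toCfg.Q_le_T])) hn
  have h2 : P ≤ T ⊓ H := le_inf hP (h1 ▸ le_normalizer)
  have h3 : ⁅P, Q⁆ = ⊥ := by
    rw [eq_bot_iff, ← hd P hpg]
    exact le_inf (commutator_le_right_of_norm (h2.trans h.isO.norm))
      (commutator_le_left_of_norm (h.toCfg.Q_le_H.trans hn))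
  apply h0
  rw [← hd P hpg, eq_comm, inf_eq_right]
  exact (le_inf h2 (commutator_eq_bot_iff_le_centralizer.1 h3)).trans h.cent

end setup

end Cfsg.Agent.T44.Ex
end

-- part: T44/Ex/Nt
section
/-!
# S3544, exceptional groups: the non-toral case (helper36)

`false_nonTor` : if `H` normalises no toral subgroup of the algebraic group, there is no configuration.
-/

set_option autoImplicit false
set_option linter.unusedSectionVars false

namespace Cfsg.Agent.T44.Ex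

open CoxeterSystem Cfsg Cfsg.Lie Cfsg.Lie.ChevalleyDatum
open Cfsg.Agent.ChevalleyStructure Cfsg.Agent.ChevalleyStructure.Elts Cfsg.Agent.ChevalleyStructure.CoxeterGeom
  Cfsg.Agent.ChevalleyStructure.CoxeterGeomTypes
open Cfsg.Agent.Tits.Roots Cfsg.Agent.Tits.Core Cfsg.Agent.Nodes Cfsg.Agent.Nodes.Reps Cfsg.Agent.Nodes.BNOf
  Cfsg.Agent.Nodes.RGDChev Cfsg.Agent.Nodes.Bruhat
open Cfsg.Agent.KFacts.RgdField Cfsg.Agent.KFacts.RgdChevCoord
open Cfsg.Agent.BpExc Cfsg.Agent.BpExc.TorCent Cfsg.Agent.BpExc.TorChev Cfsg.Agent.BpExc.Tow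
  Cfsg.Agent.BpExc.TowChev Cfsg.Agent.BpExc.Fr Cfsg.Agent.BpExc.LangFr
open Cfsg.Agent.H469.Exc Cfsg.Agent.H795.SetCent Cfsg.Agent.H129.TorusChar Cfsg.Agent.DS.Ex Cfsg.Agent.DS.Nt
open Cfsg.Agent.H185.EE Cfsg.Agent.H931.KC

variable {D : ChevalleyDatum} {l : ℕ} {M : CoxeterMatrix (Fin l)} {hp : IsType D l M} {p : ℕ} [Fact p.Prime]

variable (hp) in
/-- the component group of the centraliser of an element of prime order is cyclic of prime order -/
theorem DZ_cyc (hD : Typ D) {r : ℕ} (hr' : r.Prime) (hrp : r ≠ p) {t : YY D p} (ht : t ∈ TT D (KK p)) (htr : t ^ r = 1)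
    {y c : YY D p} (hy : y * t = t * y) (hn : y ∉ DZ hp p {t}) (hc : c * t = t * c) :
    ∃ j : ℕ, c * y ^ j ∈ DZ hp p {t} := by
  have := finW hp
  have := Fact.mk hr'
  have hZ : ({t} : Set (YY D p)) ⊆ TT D (KK p) := Set.singleton_subset_iff.2 ht
  obtain ⟨m, hm, w, hw, k, h1, h2, rfl⟩ := _root_.Cfsg.Agent.DS.Nt.form hp (Set.finite_singleton t) hZ (c := y) fun s hs => by rw [hs, hy]
  obtain ⟨m', hm', w', hw', k', h1', h2', rfl⟩ := _root_.Cfsg.Agent.DS.Nt.form hp (Set.finite_singleton t) hZ (c := c) fun s hs => by rw [hs, hc]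
  have hw1 : (⟨w, mem_PP_of_PPZ hw⟩ : PP M.toCoxeterSystem hp.isCartan (KFacts.RgdChevCoord.ch hp) t) ≠ 1 := fun h => hn (by
    rw [show w = 1 from congrArg Subtype.val h] at h1
    exact mul_mem (Mz_le_DZ hm) (T_le_DZ h1.mem_T))
  rcases card_PP (hp := hp) hD hr' hrp ht htr with h | ⟨h, -⟩
  · exact absurd ((Nat.card_eq_one_iff_unique.1 h).1.elim _ _) hw1
  obtain ⟨j, hj⟩ := mem_powers_of_prime_card h hw1 (g' := ⟨w', mem_PP_of_PPZ hw'⟩⁻¹)
  have h3 := h1'.mul (h1.pow j)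
  rw [show w ^ j = w'⁻¹ from congrArg Subtype.val hj, mul_inv_cancel] at h3
  refine ⟨j, mem_DZ.2 ⟨_, mul_mem hm' (h1'.conj_Mz hZ h2' (pow_mul_mem_Mz hZ hm h1 h2 j)), _, h3.mem_T, by group⟩⟩

theorem exists_cyc (hp : IsType D l M) (hD : Typ D) {r : ℕ} (hr' : r.Prime) (hrp : r ≠ p) {z : YY D p} (hz : z ^ r = 1) :
    ∃ K : Subgroup (YY D p), (∀ y : YY D p, y ^ r = 1 → (y ∈ K ↔ Tp p z y)) ∧
      ∀ y c : YY D p, y * z = z * y → y ∉ K → c * z = z * c → ∃ j : ℕ, c * y ^ j ∈ K := by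
  obtain ⟨g, hg⟩ := exists_conj_T hp hr' hrp (n := 1) (by rw [pow_one]; exact hz)
  have hpow : ∀ y : YY D p, y ^ r = 1 → (g * y * g⁻¹) ^ r = 1 := fun y hy => by
    rw [conj_pow, hy, mul_one, mul_inv_cancel]
  refine ⟨(DZ hp p {g * z * g⁻¹}).comap (MulAut.conj g).toMonoidHom, fun y hy => ⟨fun h => ?_, fun h => ?_⟩,
    fun y c hy hn hc => ?_⟩
  · exact (tp_of_mem_DZ hr' hrp hg ⟨1, by rw [pow_one, hpow z hz]⟩ h ⟨1, by rw [pow_one]; exact hpow y hy⟩).of_conj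
  · exact mem_DZ_of_tp hD hg (h.conj g)
  · obtain ⟨j, hj⟩ := DZ_cyc hp hD hr' hrp hg (hpow z hz) (conj_comm (g := g) hy) hn (conj_comm (g := g) hc)
    refine ⟨j, ?_⟩
    show g * (c * y ^ j) * g⁻¹ ∈ DZ hp p {g * z * g⁻¹}
    rwa [conj_pow, ← mul_assoc, ← mul_assoc, inv_mul_cancel_right, mul_assoc g c] at hj

variable {G : Type} [Group G] [Finite G] {T H Q : Subgroup G} {r : ℕ} {Ya Yb : Set G} {da db : ℕ}

/-- **The non-toral case.** -/
theorem false_nonTor (h : AS T H Q r Ya Yb da db) (hD : Typ D) (L : Lift hp p T) (hrp : r ≠ p)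
    (fr : ∃ g : (Fin l → ℤ) ≃+ (Fin l → ℤ), Fr M.toCoxeterSystem hp.isCartan (TT D (KK p)) (XX D l (KK p)) L.σ g)
    (noT : ∀ A₀ : Subgroup (YY D p), Toral p A₀ → L.Inv H A₀ → A₀ = ⊥) : False := by
  have C : Ctx L H := ⟨hD, setup h, fr, noP h Fact.out hrp, noT⟩
  have c := h.toCfg
  have hQ : ∀ {x : G} (hx : x ∈ Q), L.ι ⟨x, c.Q_le_T hx⟩ ∈ im L Q := fun hx => ι_mem_im.2 hx
  rcases rad_cases C h.prime h.Q_ne c.Q_le_T c.H_norm_Q h.isO.pg with ⟨E, hEQ, hL, hE, h1⟩ | ⟨h1, h2, h3, h4⟩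
  · have hn : T ⊓ H ≤ Subgroup.normalizer (E : Set G) := inf_le_right.trans hL.norm.ge
    rcases loc_struct C hL hE with ⟨⟨A, hA, hT, hF⟩, h2⟩ | ⟨⟨i, d, J, -, -, hO⟩, -⟩
    · obtain ⟨P, f, hP, hf⟩ := exists_hom_W hp (hE.mono hA).el hT hF
      have hle : T ⊓ H ⊓ Subgroup.centralizer (E : Set G) ≤ T := inf_le_left.trans inf_le_left
      let j : ↥(T ⊓ H ⊓ Subgroup.centralizer (E : Set G)) →* Subgroup.centralizer (A : Set (YY D p)) :=
        (L.ι.comp (Subgroup.inclusion hle)).codRestrict _ fun x =>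
          Subgroup.mem_centralizer_iff.2 fun a ha => (ι_comm (L := L) (c := Subgroup.inclusion hle x) x.2.2 (hA ha)).symm
      have hj : Function.Injective j := fun x y e =>
        Subgroup.inclusion_injective hle (L.inj (congrArg Subtype.val e))
      have hC := pg_of_hom (ch c) inf_le_left (norm_inf Subgroup.le_normalizer (norm_centralizer hn)) hP (f.comp j)
        fun x y hx hy => hj (by rw [map_mul, map_mul]; exact hf _ _ hx hy)
      have hE' := h.isO.pg.to_le hEQ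
      rcases h2 with ⟨-, rfl, h3⟩ | ⟨-, rfl, h3⟩ | ⟨-, rfl, h3⟩ | ⟨-, rfl, h3⟩
      · exact c.false_of_card hE' hn hC h3 (Or.inr (Or.inl ⟨rfl, by norm_num⟩))
      · exact c.false_of_card hE' hn hC h3 (Or.inr (Or.inl ⟨rfl, le_rfl⟩))
      · exact c.false_of_card hE' hn hC h3 (Or.inr (Or.inr ⟨rfl, le_rfl⟩))
      · exact c.false_of_card hE' hn hC h3 (Or.inl ⟨rfl, le_rfl⟩)
    · refine c.false_of_cent_comm ⟨hL.comm, hL.pow⟩ ⟨hL.ne_bot, hL.norm.ge, hL.min⟩ hEQ (fun x hx => ?_)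
        fun a ha b hb => hO.comm a ⟨ha.2, ha.1⟩ b ⟨hb.2, hb.1⟩
      refine Subgroup.mem_centralizer_iff.2 fun e he => ?_
      have h3 := (h1 _ ((ι_mem_im (x := ⟨e, hL.le_S he⟩)).2 he)).1.2.2 _ (hQ hx)
      rw [← map_mul, ← map_mul] at h3
      exact (congrArg Subtype.val (L.inj h3)).symm
  · rcases h4 with ⟨-, rfl, h4⟩ | ⟨-, rfl, h4⟩
    · have hpw : ∀ {x : G} (hx : x ∈ Q), L.ι ⟨x, c.Q_le_T hx⟩ ^ 3 = 1 := fun {x} hx => by
        rw [← map_pow, ← map_one L.ι]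
        exact congrArg L.ι (Subtype.ext (h3 x hx))
      have hcm : ∀ {x y : G} (hx : x ∈ Q) (hy : y ∈ Q),
          L.ι ⟨x, c.Q_le_T hx⟩ * L.ι ⟨y, c.Q_le_T hy⟩ = L.ι ⟨y, c.Q_le_T hy⟩ * L.ι ⟨x, c.Q_le_T hx⟩ := fun {x y} hx hy => by
        rw [← map_mul, ← map_mul]
        exact congrArg L.ι (Subtype.ext (h2 x hx y hy))
      refine false_of_pol c h2 h3 h4 (fun x y => ∃ (hx : x ∈ T) (hy : y ∈ T), Tp p (L.ι ⟨x, hx⟩) (L.ι ⟨y, hy⟩))
        (fun x hx => ?_) (fun x y ⟨a, b, e⟩ => ⟨b, a, e.symm⟩) (fun x hx => ?_) (fun x hx e => ?_) fun m hm x hx y hy e => ?_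
      · obtain ⟨K, k1, k2⟩ := exists_cyc hp hD h.prime hrp (hpw hx)
        refine ⟨pb L K, fun y hy => ?_, fun y hy hn a ha => ?_⟩
        · rw [coe_mem_pb (x := ⟨y, c.Q_le_T hy⟩), k1 _ (hpw hy)]
          exact ⟨fun e => ⟨_, _, e⟩, fun ⟨_, _, e⟩ => e⟩
        · obtain ⟨j, hj⟩ := k2 _ _ (hcm hy hx) (fun e => hn ((coe_mem_pb (x := ⟨y, c.Q_le_T hy⟩)).2 e)) (hcm ha hx)
          rw [← map_pow, ← map_mul] at hj
          exact ⟨j, coe_mem_pb.2 hj⟩
      · obtain ⟨g, hg⟩ := exists_conj_T hp h.prime hrp (n := 1) (by rw [pow_one]; exact hpw hx)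
        exact ⟨c.Q_le_T hx, c.Q_le_T hx, g, hg, hg⟩
      · have h5 := h1 _ ⟨hQ hx, hpw hx, by
          rintro _ ⟨y, hy, rfl⟩
          exact hcm hy hx⟩ (by
          rintro _ ⟨⟨y, hy, rfl⟩, -⟩
          obtain ⟨_, _, e'⟩ := e y hy
          exact e'.symm)
        rw [← map_one L.ι] at h5
        exact congrArg Subtype.val (L.inj h5)
      · obtain ⟨a, b, e⟩ := e
        have h5 := e.conj (L.ι ⟨m, hm.1⟩)
        rw [← map_inv, ← map_mul, ← map_mul, ← map_mul, ← map_mul] at h5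
        exact ⟨h.normal.mem_comm_iff.1 (by rw [← mul_assoc, inv_mul_cancel, one_mul]; exact a),
          h.normal.mem_comm_iff.1 (by rw [← mul_assoc, inv_mul_cancel, one_mul]; exact b), h5⟩
    · exact c.false_of_card h.isO.pg h.isO.norm (h.isO.pg.to_le h.cent) h4 (Or.inl ⟨rfl, by norm_num⟩)

end Cfsg.Agent.T44.Ex
end
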